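import Groth.Agent.CohBCLib.FreeNhd
import Groth.Agent.FlatLib.QStalk
import Groth.Agent.QCohLib.AffineFinite

/-!
# A coherent module with a free stalk is free near the point, and freeness from the thickenings
-/

set_option autoImplicit false
set_option linter.style.haveILetI false

universe u

open CategoryTheory CategoryTheory.Limits AlgebraicGeometry TopologicalSpace Opposite
open scoped TensorProduct

noncomputable section

namespace RegAlgzLib

/-- A coherent module with free stalk at `x` is free near `x`. -/
theorem exists_free_nhd_of_free_stalk {X : Scheme.{u}} [IsLocallyNoetherian X] (F : X.Modules) (hF : Coh.IsCoh F)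
    (x : X) [hfree : Module.Free (X.presheaf.stalk x) (F.presheaf.stalk x)] :
    ∃ (O : X.Opens) (n : ℕ), x ∈ O ∧ Nonempty (F.restrict O.ι ≅ FlatMod.freeMod (↑O) n) := by
  haveI : Coh.IsQCoh F := hF.1
  obtain ⟨W, hW, hxW, -⟩ := exists_isAffineOpen_mem_and_subset (x := x) (U := ⊤) trivial
  haveI : Module.Finite Γ(X, W) Γ(F, W) := QCohLib.finite_of_isFT hF.2 hW
  haveI : IsNoetherianRing Γ(X, W) := IsLocallyNoetherian.component_noetherian ⟨W, hW⟩
  haveI : Module.FinitePresentation Γ(X, W) Γ(F, W) := Module.finitePresentation_of_finite _ _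
  let p := hW.primeIdealOf ⟨x, hxW⟩
  letI := Module.compHom (F.presheaf.stalk x) (X.presheaf.germ W x hxW).hom
  letI : Algebra Γ(X, W) (X.presheaf.stalk x) := (X.presheaf.germ W x hxW).hom.toAlgebra
  haveI : IsScalarTower Γ(X, W) (X.presheaf.stalk x) (F.presheaf.stalk x) :=
    IsScalarTower.of_algebraMap_smul fun _ _ ↦ rfl
  haveI : IsLocalization p.asIdeal.primeCompl (X.presheaf.stalk x) := hW.isLocalization_stalk ⟨x, hxW⟩
  haveI : IsLocalizedModule p.asIdeal.primeCompl (FlatLib.germLin F hxW) :=
    FlatLib.isLocalizedModule_germLin F hW hxW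
  obtain ⟨r, hr, hfr, -⟩ := Module.FinitePresentation.exists_free_localizedModule_powers
    p.asIdeal.primeCompl (FlatLib.germLin F hxW) (X.presheaf.stalk x)
  haveI := hfr
  haveI : Nontrivial (Localization.Away r) := (IsLocalization.lift (M := Submonoid.powers r)
    (g := algebraMap Γ(X, W) (X.presheaf.stalk x)) fun y =>
      IsLocalization.map_units (X.presheaf.stalk x)
        (⟨y.1, (Submonoid.powers_le (P := p.asIdeal.primeCompl)).2 hr y.2⟩ :
          p.asIdeal.primeCompl)).domain_nontrivial
  haveI : Module.Finite (Localization.Away r) (LocalizedModule.Away r Γ(F, W)) :=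
    Module.Finite.of_isLocalizedModule (Submonoid.powers r) (LocalizedModule.mkLinearMap _ _)
  refine ⟨X.basicOpen r, _, ?_, CohBCLib.nonempty_restrict_iso_freeMod hW F r (Module.finBasis _ _)⟩
  rw [X.mem_basicOpen r x hxW]
  exact IsLocalization.map_units (X.presheaf.stalk x) (⟨r, hr⟩ : p.asIdeal.primeCompl)

section Algebra

variable {R : Type u} [CommRing R] {M : Type u} [AddCommGroup M] [Module R M]

/-- Elements of `M` dying in `B ⊗ M` for a surjective `R → B`. -/
theorem mem_smul_top_of_one_tmul_eq_zero {B : Type u} [CommRing B] [Algebra R B]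
    (hs : Function.Surjective (algebraMap R B)) {x : M} (h : (1 : B) ⊗ₜ[R] x = 0) :
    x ∈ RingHom.ker (algebraMap R B) • (⊤ : Submodule R M) := by
  let J := RingHom.ker (algebraMap R B)
  let e : (R ⧸ J) ≃ₐ[R] B := Ideal.quotientKerAlgEquivOfSurjective (f := Algebra.ofId R B) hs
  let φ : B ⊗[R] M →ₗ[R] M ⧸ (J • ⊤ : Submodule R M) :=
    (TensorProduct.quotTensorEquivQuotSMul M J).toLinearMap ∘ₗ e.symm.toLinearMap.rTensor M
  have h1 : φ ((1 : B) ⊗ₜ[R] x) = Submodule.Quotient.mk x := by
    show TensorProduct.quotTensorEquivQuotSMul M J (e.symm.toLinearMap 1 ⊗ₜ[R] x) = _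
    rw [show e.symm.toLinearMap 1 = Ideal.Quotient.mk J 1 from map_one e.symm,
      TensorProduct.quotTensorEquivQuotSMul_mk_tmul, one_smul]
  rw [h, map_zero] at h1
  exact (Submodule.Quotient.mk_eq_zero _).1 h1.symm

variable [IsLocalRing R] [IsNoetherianRing R] [Module.Finite R M]

/-- A finite module over a Noetherian local ring with free reductions along thickenings is free. -/
theorem free_of_forall_levels (I : Ideal R) (hI : I ≤ IsLocalRing.maximalIdeal R)
    (h : ∀ n : ℕ, ∃ (B : Type u) (_ : CommRing B) (_ : Algebra R B), Function.Surjective (algebraMap R B) ∧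
      RingHom.ker (algebraMap R B) ≤ I ^ (n + 1) ∧ ∃ s : ℕ, Nonempty (B ⊗[R] M ≃ₗ[B] (Fin s → B))) :
    Module.Free R M := by
  classical
  let k := IsLocalRing.ResidueField R
  let m := IsLocalRing.maximalIdeal R
  obtain ⟨r, f, hf, hmin⟩ : ∃ (r : ℕ) (f : (Fin r → R) →ₗ[R] M), Function.Surjective f ∧
      LinearMap.ker f ≤ m • ⊤ := by
    let b := Module.finBasis k (k ⊗[R] M)
    choose v hv using fun i => TensorProduct.mk_surjective R M k IsLocalRing.residue_surjective (b i)
    refine ⟨_, Fintype.linearCombination R v, ?_, fun x hx => ?_⟩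
    · rw [← LinearMap.range_eq_top, Fintype.range_linearCombination]
      exact IsLocalRing.span_eq_top_of_tmul_eq_basis v b hv
    · have h0 : ∑ i, algebraMap R k (x i) • b i = 0 := by
        have := congrArg (TensorProduct.mk R k M 1) (LinearMap.mem_ker.1 hx)
        rw [Fintype.linearCombination_apply, map_sum, map_zero] at this
        refine Eq.trans (Finset.sum_congr rfl fun i _ => ?_) this
        rw [map_smul, hv i, algebraMap_smul]
      have h1 := Fintype.linearIndependent_iff.1 b.linearIndependent _ h0
      rw [pi_eq_sum_univ x]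
      exact Submodule.sum_mem _ fun i _ => Submodule.smul_mem_smul
        ((IsLocalRing.residue_eq_zero_iff _).1 (h1 i)) trivial
  have hK : ∀ n : ℕ, LinearMap.ker f ≤ I ^ (n + 1) • ⊤ := by
    intro n
    obtain ⟨B, _, _, hs, hker, s, ⟨e⟩⟩ := h n
    have hJm : RingHom.ker (algebraMap R B) ≤ m :=
      hker.trans ((Ideal.pow_le_pow_right (Nat.le_add_left 1 n)).trans ((pow_one I).le.trans hI))
    let q : (Fin r → R) →ₗ[R] (Fin s → B) :=
      (e.restrictScalars R).toLinearMap ∘ₗ (TensorProduct.mk R B M 1) ∘ₗ f
    have hq : Function.Surjective q :=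
      e.surjective.comp ((TensorProduct.mk_surjective R M B hs).comp hf)
    choose g hg using fun i : Fin s => hq (Pi.single i 1)
    let S : (Fin s → R) →ₗ[R] (Fin r → R) := Fintype.linearCombination R g
    have hqS : ∀ z : Fin s → R, q (S z) = fun i => algebraMap R B (z i) := by
      intro z
      rw [Fintype.linearCombination_apply, map_sum]
      funext i
      simp only [map_smul, hg, Finset.sum_apply, Pi.smul_apply, Pi.single_apply, smul_ite, smul_zero,
        Finset.sum_ite_eq, Finset.mem_univ, if_true]
      rw [Algebra.smul_def, mul_one]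
    have hkq : LinearMap.ker q ≤ m • ⊤ := by
      intro x hx
      have h0 : (1 : B) ⊗ₜ[R] f x = 0 := e.injective (by rw [map_zero]; exact hx)
      have h1 : f x ∈ Submodule.map f (RingHom.ker (algebraMap R B) • ⊤) := by
        rw [Submodule.map_smul'', Submodule.map_top, LinearMap.range_eq_top.2 hf]
        exact mem_smul_top_of_one_tmul_eq_zero hs h0
      obtain ⟨y, hy, hyx⟩ := h1
      have h2 : x - y ∈ LinearMap.ker f := by rw [LinearMap.mem_ker, map_sub, hyx, sub_self]
      have h3 := add_mem (hmin h2) (Submodule.smul_mono_left hJm hy)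
      rwa [sub_add_cancel] at h3
    have hS : LinearMap.range S = ⊤ := by
      refine top_le_iff.1 (Submodule.le_of_le_smul_of_le_jacobson_bot (I := m) Module.Finite.fg_top ?_ ?_)
      · rw [IsLocalRing.jacobson_eq_maximalIdeal ⊥ bot_ne_top]
      · intro x _
        choose z hz using fun i => hs (q x i)
        have h4 : x - S z ∈ LinearMap.ker q := by
          rw [LinearMap.mem_ker, map_sub, hqS, sub_eq_zero]
          exact funext fun i => (hz i).symm
        exact sub_add_cancel x (S z) ▸ add_comm (S z) (x - S z) ▸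
          Submodule.add_mem_sup ⟨z, rfl⟩ (hkq h4)
    intro x hx
    obtain ⟨z, rfl⟩ := LinearMap.range_eq_top.1 hS x
    have h5 : ∀ i, z i ∈ I ^ (n + 1) := fun i => hker (RingHom.mem_ker.2 (by
      have h6 : q (S z) = 0 := by
        show e (1 ⊗ₜ[R] f (S z)) = 0
        rw [LinearMap.mem_ker.1 hx, TensorProduct.tmul_zero, map_zero]
      exact (congrFun (hqS z) i).symm.trans (congrFun h6 i)))
    rw [Fintype.linearCombination_apply]
    exact Submodule.sum_mem _ fun i _ => Submodule.smul_mem_smul (h5 i) trivial
  have hinj : Function.Injective f := by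
    rw [← LinearMap.ker_eq_bot, eq_bot_iff]
    intro x hx
    have : x ∈ (⨅ i : ℕ, I ^ i • ⊤ : Submodule R (Fin r → R)) := by
      simp only [Submodule.mem_iInf]
      rintro (_ | i)
      · rw [pow_zero, Ideal.one_eq_top, Submodule.top_smul]
        trivial
      · exact hK i hx
    rwa [Ideal.iInf_pow_smul_eq_bot_of_isLocalRing _
      ((hI.trans_lt (lt_top_iff_ne_top.2 (IsLocalRing.maximalIdeal.isMaximal R).ne_top)).ne)] at this
  exact Module.Free.of_equiv (LinearEquiv.ofBijective f ⟨hinj, hf⟩)

end Algebra

end RegAlgzLib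

end
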