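import Groth.Agent.RegAlgzLib.Main
import Groth.Agent.RegAlgzLib.FreeNhd
import Groth.Agent.LefAlgzLib.Punct
import Groth.Agent.FComplLib.Modules
import Groth.Agent.LocSuppLib.LocFree
import Groth.Agent.CohCmpLib.ChartCrit
import Groth.Agent.KFlatLib.StalkPull
import Groth.Agent.PerfLib.Restrict
import Groth.Agent.S1685
import Groth.Prelude.Def_LefX

/-!
# Effective Lefschetz condition for the punctured spectrum
-/

set_option autoImplicit false
set_option linter.style.haveILetI false
set_option linter.unusedSectionVars false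
set_option backward.isDefEq.respectTransparency false
set_option backward.isDefEq.respectTransparency.types false

universe u

open CategoryTheory CategoryTheory.Limits AlgebraicGeometry TopologicalSpace Opposite
open Algz (toStalk)
open scoped TensorProduct

noncomputable section

namespace RegAlgzLib

variable {A : Type u} [CommRing A] [IsNoetherianRing A] (V : (Spec (CommRingCat.of A)).Opens) (t : A)

/-- The ideal sheaf of `t` on an open. -/
abbrev tIdeal : (V : Scheme.{u}).IdealSheafData :=
  (Spec.map (CommRingCat.ofHom (Ideal.Quotient.mk (Ideal.span ({t} : Set A))))).ker.comap V.ι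

/-- The `n`-th thickening. -/
abbrev lev (n : ℕ) : Scheme.{u} := (FSch.completionAlong (V : Scheme.{u}) (tIdeal V t)).X n

/-- The inclusion of the `n`-th thickening. -/
abbrev levι (n : ℕ) : lev V t n ⟶ (V : Scheme.{u}) := FSch.completionToX (V : Scheme.{u}) (tIdeal V t) n

theorem isSMulRegular_toStalk (hreg : IsSMulRegular A t) (y : (V : Scheme.{u})) :
    IsSMulRegular ((V : Scheme.{u}).presheaf.stalk y) (toStalk A (V : Scheme.{u}) y t) := by
  let φ := toStalk A (V : Scheme.{u}) y
  letI := φ.toAlgebra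
  haveI := CanExtLib.isNoetherian_opens V
  haveI := Formal2AlgzLib.isLocalization_of_isOpenImmersion V.ι y φ fun _ => rfl
  haveI : Module.Flat A ((V : Scheme.{u}).presheaf.stalk y) :=
    IsLocalization.flat _ (V.ι y : PrimeSpectrum A).asIdeal.primeCompl
  have h := hreg.of_flat (S := (V : Scheme.{u}).presheaf.stalk y)
  exact h

theorem ker_levι (n : ℕ) (z : lev V t n) :
    RingHom.ker ((levι V t n).stalkMap z).hom =
      Ideal.span {toStalk A (V : Scheme.{u}) (levι V t n z) t ^ (n + 1)} := by
  let X : Scheme.{u} := V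
  have h𝓘 : tIdeal V t = (FSch.idealSpec A (Ideal.span {t})).comap (X ↘ Spec (CommRingCat.of A)) := rfl
  refine le_antisymm ?_ ?_
  · obtain ⟨U, hU, hzU, -⟩ := exists_isAffineOpen_mem_and_subset (x := levι V t n z) (U := ⊤) trivial
    rw [FComplLib.ker_stalkMap (levι V t n) z ⟨U, hU⟩ hzU]
    refine (Ideal.map_mono (FCohLib.ker_le_rho' _ (tIdeal V t) h𝓘 n ⟨U, hU⟩)).trans ?_
    rw [Ideal.map_map, Ideal.span_singleton_pow, Ideal.map_span, Set.image_singleton, ← map_pow]
    refine le_of_eq (congrArg (fun a => Ideal.span {a}) ?_)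
    exact TopCat.Presheaf.germ_res_apply X.presheaf _ _ hzU _
  · rw [Ideal.span_singleton_le_iff_mem, RingHom.mem_ker, ← map_pow]
    letI := FCohLib.overLevel (A := A) (tIdeal V t) n
    refine (stalkMap_toStalk (A := A) (levι V t n) rfl z _).trans ?_
    show (lev V t n).presheaf.germ ⊤ z trivial _ = 0
    refine (congrArg ((lev V t n).presheaf.germ ⊤ z trivial) ?_).trans (map_zero _)
    exact FCohLib.toGlobal_zero' _ (tIdeal V t) h𝓘 n (Ideal.pow_mem_pow (Ideal.mem_span_singleton_self t) _)

variable {V t}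

/-- Free levels are exact for `t`. -/
theorem exists_smul_eq_of_free (hreg : IsSMulRegular A t) (n : ℕ) {M : (lev V t (n + 1)).Modules}
    (hM : FlatMod.IsFinLocFree M) (z : lev V t (n + 1)) (a : M.presheaf.stalk z) :
    letI := FCohLib.overLevel (A := A) (tIdeal V t) (n + 1)
    toStalk A (lev V t (n + 1)) z (t ^ (n + 1)) • a = 0 → ∃ c, toStalk A (lev V t (n + 1)) z t • c = a := by
  letI := FCohLib.overLevel (A := A) (tIdeal V t) (n + 1)
  intro ha
  let y := levι V t (n + 1) z
  let τ := toStalk A (V : Scheme.{u}) y t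
  let φ := ((levι V t (n + 1)).stalkMap z).hom
  have hτ : ∀ b : A, φ (toStalk A (V : Scheme.{u}) y b) = toStalk A (lev V t (n + 1)) z b := fun b =>
    stalkMap_toStalk (A := A) (levι V t (n + 1)) rfl z b
  have hB : ∀ b : (lev V t (n + 1)).presheaf.stalk z, toStalk A (lev V t (n + 1)) z (t ^ (n + 1)) * b = 0 →
      ∃ c, toStalk A (lev V t (n + 1)) z t * c = b := by
    intro b hb
    obtain ⟨b, rfl⟩ := (levι V t (n + 1)).stalkMap_surjective z b
    have h1 : τ ^ (n + 1) * b ∈ RingHom.ker φ := by
      rw [RingHom.mem_ker, map_mul, map_pow, hτ, ← map_pow]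
      exact hb
    rw [ker_levι, Ideal.mem_span_singleton'] at h1
    obtain ⟨w, hw⟩ := h1
    refine ⟨φ w, ?_⟩
    rw [← hτ, ← map_mul]
    refine congrArg φ (((isSMulRegular_toStalk V t hreg y).pow (n + 1)) ?_)
    show τ ^ (n + 1) * (τ * w) = τ ^ (n + 1) * b
    rw [← hw, pow_succ τ (n + 1)]
    ring
  obtain ⟨s, ⟨e⟩⟩ := LocSuppLib.nonempty_stalk_pi hM z
  choose c hc using fun i => hB (e a i) (by
    have := congrFun (congrArg e ha) i
    rwa [map_smul, map_zero] at this)
  exact ⟨e.symm c, e.injective (by rw [map_smul, e.apply_symm_apply]; exact funext hc)⟩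

/-- Depth of the zeroth level. -/
theorem le_depth_level_zero (hreg : IsSMulRegular A t) {M : (lev V t 0).Modules}
    (hM : FlatMod.IsFinLocFree M) (z : lev V t 0) {d : ℕ}
    (h : ((d + 1 : ℕ) : ℕ∞) ≤ LocCoh.depth ((V : Scheme.{u}).presheaf.stalk (levι V t 0 z))
      ((V : Scheme.{u}).presheaf.stalk (levι V t 0 z))) :
    (d : ℕ∞) ≤ LocCoh.depth ((lev V t 0).presheaf.stalk z) (M.presheaf.stalk z) := by
  haveI := CanExtLib.isNoetherian_opens V
  haveI : IsLocallyNoetherian (lev V t 0) := LocallyOfFiniteType.isLocallyNoetherian (levι V t 0)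
  refine LocSuppLib.le_depth_stalk hM z ?_
  have hker := ker_levι V t 0 z
  rw [zero_add, pow_one] at hker
  refine (Groth.Agent.S1685.le_depth_quotient ((levι V t 0).stalkMap z).hom ((levι V t 0).stalkMap_surjective z)
    (toStalk A (V : Scheme.{u}) (levι V t 0 z) t) hker (isSMulRegular_toStalk V t hreg _) ?_ h).1
  refine (RingHom.ker_ne_top (((levι V t 0).stalkMap z).hom) |> IsLocalRing.le_maximalIdeal) ?_
  rw [hker]
  exact Ideal.mem_span_singleton_self _

/-- A coherent module with locally free completion has free stalks along `V(t)`. -/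
theorem free_stalk_of_completion {F : (V : Scheme.{u}).Modules} (hF : Coh.IsCoh F)
    (hfree : ∀ n, FlatMod.IsFinLocFree ((Scheme.Modules.pullback (levι V t n)).obj F))
    {y : (V : Scheme.{u})} (hy : y ∈ (tIdeal V t).support) :
    Module.Free ((V : Scheme.{u}).presheaf.stalk y) (F.presheaf.stalk y) := by
  haveI := CanExtLib.isNoetherian_opens V
  haveI := hF.1
  let R := (V : Scheme.{u}).presheaf.stalk y
  haveI : Module.Finite R (F.presheaf.stalk y) := DepthLib.finite_stalk F hF.2 y
  let τ := toStalk A (V : Scheme.{u}) y t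
  have hz : ∀ n, ∃ z : lev V t n, levι V t n z = y := fun n => by
    have h' : y ∈ Set.range (levι V t n) := by
      show y ∈ Set.range ((tIdeal V t) ^ (n + 1)).subschemeι
      rw [Scheme.IdealSheafData.range_subschemeι, Scheme.IdealSheafData.support_pow_succ]
      exact hy
    exact h'
  refine free_of_forall_levels (R := R) (M := F.presheaf.stalk y) (Ideal.span {τ}) ?_ fun n => ?_
  · obtain ⟨z, rfl⟩ := hz 0
    rw [← pow_one τ, ← ker_levι]
    exact IsLocalRing.le_maximalIdeal (RingHom.ker_ne_top _)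
  · obtain ⟨z, rfl⟩ := hz n
    let φ := (levι V t n).stalkMap z
    letI : Algebra R ((lev V t n).presheaf.stalk z) := φ.hom.toAlgebra
    obtain ⟨s, ⟨e⟩⟩ := LocSuppLib.nonempty_stalk_pi (hfree n) z
    refine ⟨(lev V t n).presheaf.stalk z, inferInstance, inferInstance, (levι V t n).stalkMap_surjective z,
      ?_, s, ⟨?_⟩⟩
    · rw [Ideal.span_singleton_pow]
      exact (ker_levι V t n z).le
    · exact ((KFlatLib.stalkPullIso (levι V t n) z).app F).toLinearEquiv.symm.trans e

section Iso

variable {X : Scheme.{u}} {U : X.Opens}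

/-- The adjunction unit becomes an isomorphism on the open. -/
theorem isIso_pullback_restrictUnit (F : X.Modules) :
    IsIso ((Scheme.Modules.pullback U.ι).map ((Scheme.Modules.restrictAdjunction U.ι).unit.app F)) := by
  refine (NatIso.isIso_map_iff (Scheme.Modules.restrictFunctorIsoPullback U.ι) _).1 ?_
  exact ((Scheme.Modules.restrictAdjunction U.ι).left_triangle_components F) |> fun h => by
    haveI : IsIso ((Scheme.Modules.restrictAdjunction U.ι).counit.app
      ((Scheme.Modules.restrictFunctor U.ι).obj F)) := inferInstance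
    exact IsIso.of_isIso_fac_right h

theorem complMod_natural (𝓘 : X.IdealSheafData) {M N : X.Modules} (η : M ⟶ N) (k : ℕ) :
    (Scheme.Modules.pullback ((FSch.completionAlong X 𝓘).ι k)).map
        ((Scheme.Modules.pullback (FSch.completionToX X 𝓘 (k + 1))).map η) ≫
      ((FSch.complMod 𝓘 N).e k).hom =
      ((FSch.complMod 𝓘 M).e k).hom ≫ (Scheme.Modules.pullback (FSch.completionToX X 𝓘 k)).map η := by
  rw [LefAlgzLib.complMod_e_iso, LefAlgzLib.complMod_e_iso]
  exact (FSch.complTransIso 𝓘 k).hom.naturality η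

/-- A morphism inverted on every level gives an isomorphism of completions. -/
def complMapIso (𝓘 : X.IdealSheafData) {M N : X.Modules} (η : M ⟶ N)
    (hη : ∀ k, IsIso ((Scheme.Modules.pullback (FSch.completionToX X 𝓘 k)).map η)) :
    FSch.complMod 𝓘 M ≅ FSch.complMod 𝓘 N :=
  FCohLib.modSysIso (𝔐 := FSch.complMod 𝓘 M) (𝔑 := FSch.complMod 𝓘 N)
    (fun k => @asIso _ _ _ _ _ (hη k)) fun k => complMod_natural 𝓘 η k

set_option maxHeartbeats 200000 in
/-- The completion only sees a neighbourhood of the support. -/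
theorem nonempty_completionMod_restrict_iso (𝓘 : X.IdealSheafData) (F : X.Modules)
    (hU : (𝓘.support : Set X) ⊆ (U : Set X)) :
    Nonempty (FSch.completionMod 𝓘 ((Scheme.Modules.pushforward U.ι).obj (F.restrict U.ι)) ≅
      FSch.completionMod 𝓘 F) := by
  let η := (Scheme.Modules.restrictAdjunction U.ι).unit.app F
  have hη : ∀ k, IsIso ((Scheme.Modules.pullback (FSch.completionToX X 𝓘 k)).map η) := by
    intro k
    have hsub : Set.range (FSch.completionToX X 𝓘 k) ⊆ Set.range U.ι := by
      rintro x hx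
      rw [Scheme.Opens.range_ι]
      refine hU ?_
      have h' : x ∈ Set.range (𝓘 ^ (k + 1)).subschemeι := hx
      rw [Scheme.IdealSheafData.range_subschemeι, Scheme.IdealSheafData.support_pow_succ] at h'
      exact h'
    let g := IsOpenImmersion.lift U.ι (FSch.completionToX X 𝓘 k) hsub
    haveI := isIso_pullback_restrictUnit (U := U) F
    refine (NatIso.isIso_map_iff (Scheme.Modules.pullbackComp g U.ι ≪≫
      Scheme.Modules.pullbackCongr (IsOpenImmersion.lift_fac U.ι _ hsub)) η).1 ?_
    show IsIso ((Scheme.Modules.pullback g).map ((Scheme.Modules.pullback U.ι).map η))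
    infer_instance
  exact ⟨LefAlgzLib.completionModIso 𝓘 _ ≪≫ (complMapIso 𝓘 η hη).symm ≪≫ (LefAlgzLib.completionModIso 𝓘 F).symm⟩

end Iso

section Punctured

variable {A : Type u} [CommRing A] [IsLocalRing A] [IsNoetherianRing A] {R : Type u} [CommRing R] [IsRegularRing R]

/-- Levelwise locally free systems extend to a neighbourhood. -/
theorem exists_extension_punctured (π : R →+* A) (hπ : Function.Surjective π) {t : A}
    (_ht : t ∈ IsLocalRing.maximalIdeal A) (hreg : IsSMulRegular A t) [IsAdicComplete (Ideal.span ({t} : Set A)) A]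
    (h3 : ∀ p : PrimeSpectrum A, t ∈ p.asIdeal → ringKrullDim (A ⧸ p.asIdeal) = 1 →
      (3 : ℕ∞) ≤ LocCoh.depth (Localization.AtPrime p.asIdeal) (Localization.AtPrime p.asIdeal))
    (V : (Spec (CommRingCat.of A)).Opens) (hV : V = FEt.puncturedSpec A)
    (𝔐 : FSch.ModSys (FSch.completionAlong (V : Scheme.{u}) (tIdeal V t))) (h𝔐 : LefX.LevelwiseFinLocFree 𝔐) :
    ∃ (U : (V : Scheme.{u}).Opens) (E : (U : Scheme.{u}).Modules),
      ((tIdeal V t).support : Set (V : Scheme.{u})) ⊆ (U : Set (V : Scheme.{u})) ∧ FlatMod.IsFinLocFree E ∧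
        Nonempty (FSch.completionMod (tIdeal V t) ((Scheme.Modules.pushforward U.ι).obj E) ≅ 𝔐) := by
  haveI := CanExtLib.isNoetherian_opens V
  have hcoh : 𝔐.IsCoh := fun n => LocSuppLib.isCoh_of_isFinLocFree (h𝔐 n)
  refine Exists.elim (exists_algebraization_stalk (I := IsLocalRing.maximalIdeal A) π hπ V
    (hV.trans LefAlgzLib.puncturedSpec_eq_puncturedOpen) 𝔐 hcoh
    (fun n z a => exists_smul_eq_of_free hreg n (h𝔐 (n + 1)) z a) (fun z hz => ?_)) ?_
  swap
  · rintro F ⟨hF, ⟨e⟩⟩
    have hfree : ∀ n, FlatMod.IsFinLocFree ((Scheme.Modules.pullback (levι V t n)).obj F) := fun n =>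
      Groth.Agent.PerfLib.isFinLocFree_of_iso
        (⟨e.inv.app n, e.hom.app n, congrArg (fun f => FSch.ModSys.Hom.app f n) e.inv_hom_id,
          congrArg (fun f => FSch.ModSys.Hom.app f n) e.hom_inv_id⟩ :
          𝔐.F n ≅ (FSch.completionMod (tIdeal V t) F).F n) (h𝔐 n)
    have hloc : ∀ y : (V : Scheme.{u}), y ∈ (tIdeal V t).support → ∃ (O : (V : Scheme.{u}).Opens) (n : ℕ),
        y ∈ O ∧ Nonempty (F.restrict O.ι ≅ FlatMod.freeMod (↑O) n) := fun y hy => by
      haveI := free_stalk_of_completion hF hfree hy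
      exact exists_free_nhd_of_free_stalk F hF y
    choose O n hO φ using hloc
    let U : (V : Scheme.{u}).Opens := ⨆ (y : (V : Scheme.{u})) (hy : y ∈ (tIdeal V t).support), O y hy
    refine ⟨U, F.restrict U.ι, fun y hy => ?_, CohCmpLib.isFinLocFree_restrict_of_nhds F U fun x hx => ?_, ?_⟩
    · exact Opens.mem_iSup.2 ⟨y, Opens.mem_iSup.2 ⟨hy, hO y hy⟩⟩
    · obtain ⟨y, hx⟩ := Opens.mem_iSup.1 hx
      obtain ⟨hy, hx⟩ := Opens.mem_iSup.1 hx
      exact ⟨O y hy, n y hy, hx, φ y hy⟩
    · obtain ⟨α⟩ := nonempty_completionMod_restrict_iso (tIdeal V t) F (U := U)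
        (fun y hy => Opens.mem_iSup.2 ⟨y, Opens.mem_iSup.2 ⟨hy, hO y hy⟩⟩)
      exact ⟨α ≪≫ e⟩
  · subst hV
    let y := levι (FEt.puncturedSpec A) t 0 z
    refine le_depth_level_zero (d := 2) hreg (h𝔐 0) z ?_
    have hty : t ∈ ((FEt.puncturedSpec A).ι y : PrimeSpectrum A).asIdeal := by
      have hm : toStalk A (FEt.puncturedSpec A : Scheme.{u}) y t ∈
          IsLocalRing.maximalIdeal ((FEt.puncturedSpec A : Scheme.{u}).presheaf.stalk y) := by
        rw [← pow_one (toStalk A (FEt.puncturedSpec A : Scheme.{u}) y t)]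
        refine IsLocalRing.le_maximalIdeal (RingHom.ker_ne_top ((levι (FEt.puncturedSpec A) t 0).stalkMap z).hom) ?_
        rw [ker_levι]
        exact Ideal.mem_span_singleton_self _
      let φ := toStalk A (FEt.puncturedSpec A : Scheme.{u}) y
      letI := φ.toAlgebra
      haveI := Formal2AlgzLib.isLocalization_of_isOpenImmersion (FEt.puncturedSpec A).ι y φ fun _ => rfl
      by_contra hn
      exact hm (IsLocalization.map_units ((FEt.puncturedSpec A : Scheme.{u}).presheaf.stalk y)
        (⟨t, hn⟩ : ((FEt.puncturedSpec A).ι y : PrimeSpectrum A).asIdeal.primeCompl))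
    refine le_of_le_of_eq (h3 _ hty ?_) (LefAlgzLib.depth_stalk _ y).symm
    obtain ⟨a, ham, hay⟩ : ∃ a ∈ IsLocalRing.maximalIdeal A, a ∉ ((FEt.puncturedSpec A).ι y : PrimeSpectrum A).asIdeal :=
      Set.not_subset.1 fun hle => y.2 (PrimeSpectrum.ext ((IsLocalRing.maximalIdeal.isMaximal A).eq_of_le
        ((FEt.puncturedSpec A).ι y : PrimeSpectrum A).isPrime.ne_top hle).symm)
    refine LefAlgzLib.ringKrullDim_quot_eq_one _ y.2 ham fun q hq htq => ?_
    rcases LefAlgzLib.covBy_closedPoint_of_relCodim hz q hq with h | h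
    · exact absurd (h ▸ htq) hay
    · exact h

end Punctured

end RegAlgzLib

end
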