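import Groth.Agent.DegPullLib.Rank
import Groth.Agent.CommAlgDim.Depth
import Groth.Agent.DepthLib.RegAB
import Groth.Agent.S14435
import Groth.Agent.DevissLib.ClosedImm
import Groth.Agent.KFlatLib.Stalk
import Groth.Agent.CanExtLib.Stalk
import Groth.Agent.FCohLib.AlgzPush

/-!
# Stalks of direct images along closed immersions
-/

set_option autoImplicit false
set_option linter.style.haveILetI false

universe u

open CategoryTheory CategoryTheory.Limits AlgebraicGeometry TopologicalSpace Opposite

noncomputable section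

namespace RegAlgzLib

variable {X Y : Scheme.{u}} (i : X ⟶ Y) [IsClosedImmersion i]

/-- The stalk of a direct image. -/
def σ (G : X.Modules) (z : X) : ((Coh.push i).obj G).presheaf.stalk (i z) →+ G.presheaf.stalk z :=
  (TopCat.Presheaf.stalkPushforward AddCommGrpCat i.base G.presheaf z).hom

theorem σ_bijective (G : X.Modules) (z : X) : Function.Bijective (σ i G z) :=
  DegPullLib.bijective_stalkPushforward i i.isClosedEmbedding.isClosedMap G z
    fun _ hw => i.isClosedEmbedding.injective hw

theorem σ_smul (G : X.Modules) (z : X) (c : Y.presheaf.stalk (i z)) (a : ((Coh.push i).obj G).presheaf.stalk (i z)) :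
    σ i G z (c • a) = (i.stalkMap z c) • σ i G z a :=
  DegPullLib.stalkPushforward_smul i G z c a

theorem depth_push (G : X.Modules) (hG : Coh.IsCoh G) [IsLocallyNoetherian X] [IsLocallyNoetherian Y] (z : X) :
    LocCoh.depth (Y.presheaf.stalk (i z)) (((Coh.push i).obj G).presheaf.stalk (i z)) =
      LocCoh.depth (X.presheaf.stalk z) (G.presheaf.stalk z) := by
  haveI := hG.1
  let A := Y.presheaf.stalk (i z)
  let B := X.presheaf.stalk z
  letI : Algebra A B := (i.stalkMap z).hom.toAlgebra
  letI : Module A (G.presheaf.stalk z) := Module.compHom _ (i.stalkMap z).hom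
  haveI : IsScalarTower A B (G.presheaf.stalk z) := IsScalarTower.of_compHom _ _ _
  let σ' : ((Coh.push i).obj G).presheaf.stalk (i z) →ₗ[A] G.presheaf.stalk z :=
    { toFun := fun a => σ i G z a
      map_add' := fun a b => map_add _ a b
      map_smul' := fun c a => σ_smul i G z c a }
  let e := LinearEquiv.ofBijective σ' (σ_bijective i G z)
  have hs : Function.Surjective (algebraMap A B) := i.stalkMap_surjective z
  haveI : Module.Finite A B := Module.Finite.of_surjective (Algebra.linearMap A B) hs
  haveI : Module.Finite B (G.presheaf.stalk z) := DepthLib.finite_stalk G hG.2 z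
  rw [CommAlgDim.depth_congr e]
  show LocCoh.idealDepth (IsLocalRing.maximalIdeal A) (G.presheaf.stalk z) =
    LocCoh.idealDepth (IsLocalRing.maximalIdeal B) (G.presheaf.stalk z)
  rw [Groth.Agent.S14435.result (A := A) (B := B) (IsLocalRing.maximalIdeal A) le_rfl (G.presheaf.stalk z)]
  congr 1
  haveI : IsLocalHom (algebraMap A B) := inferInstanceAs (IsLocalHom (i.stalkMap z).hom)
  rcases Ideal.map_eq_top_or_isMaximal_of_surjective (algebraMap A B) hs
    (inferInstance : (IsLocalRing.maximalIdeal A).IsMaximal) with h | h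
  · have h1 : (⊤ : Ideal B) ≤ IsLocalRing.maximalIdeal B :=
      h.ge.trans (((IsLocalRing.local_hom_TFAE (algebraMap A B)).out 0 2).1 ‹IsLocalHom (algebraMap A B)›)
    exact absurd (top_le_iff.1 h1) (IsLocalRing.maximalIdeal.isMaximal B).ne_top
  · exact IsLocalRing.eq_maximalIdeal h

variable {A : Type u} [CommRing A] [Y.Over (Spec (CommRingCat.of A))] [X.Over (Spec (CommRingCat.of A))]
  (hi : i ≫ (Y ↘ Spec (CommRingCat.of A)) = X ↘ Spec (CommRingCat.of A))

omit [IsClosedImmersion i] in
include hi in
theorem stalkMap_toStalk (z : X) (a : A) : i.stalkMap z (Algz.toStalk A Y (i z) a) = Algz.toStalk A X z a := by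
  refine (Scheme.Hom.germ_stalkMap_apply i ⊤ z trivial _).trans ?_
  show X.presheaf.germ ⊤ z trivial _ = X.presheaf.germ ⊤ z trivial (Coh.toGlobal (X ↘ Spec (CommRingCat.of A)) a)
  rw [← hi]
  rfl

include hi in
/-- Annihilation of kernels moves to the direct image. -/
theorem exists_smul_eq_push (F : X.Modules) (t b : A)
    (hex : ∀ (z : X) (a : F.presheaf.stalk z), Algz.toStalk A X z b • a = 0 →
      ∃ c, Algz.toStalk A X z t • c = a)
    (y : Y) (a : ((Coh.push i).obj F).presheaf.stalk y) (ha : Algz.toStalk A Y y b • a = 0) :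
    ∃ c, Algz.toStalk A Y y t • c = a := by
  by_cases h : y ∈ Set.range ⇑i
  · obtain ⟨z, rfl⟩ := h
    have h1 := congrArg (σ i F z) ha
    rw [σ_smul, stalkMap_toStalk i hi, map_zero] at h1
    obtain ⟨c, hc⟩ := hex z _ h1
    obtain ⟨c', rfl⟩ := (σ_bijective i F z).2 c
    exact ⟨c', (σ_bijective i F z).1 (by rw [σ_smul, stalkMap_toStalk i hi]; exact hc)⟩
  · have hn : y ∉ CohB1.support ((Coh.push i).obj F) := fun hc => h (DevissLib.support_push_subset i F hc)
    haveI : Subsingleton (((Coh.push i).obj F).presheaf.stalk y) := not_not.mp hn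
    exact ⟨0, Subsingleton.elim _ _⟩

omit [IsClosedImmersion i] in
/-- Exactness of two multiplications, from the subobjects. -/
theorem exists_smul_eq_of_subobject (F : X.Modules) (t b : A) (htb : Formal.smulMod A F t ≫ Formal.smulMod A F b = 0)
    (h : kernelSubobject (Formal.smulMod A F b) = imageSubobject (Formal.smulMod A F t))
    (z : X) (a : F.presheaf.stalk z) (ha : Algz.toStalk A X z b • a = 0) :
    ∃ c, Algz.toStalk A X z t • c = a := by
  let T := ShortComplex.mk _ _ htb
  have hex : T.Exact := (ShortComplex.exact_iff_image_eq_kernel T).2 h.symm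
  have hz := (ShortComplex.moduleCat_exact_iff _).1 (hex.map (DerSch.stalkFunctor X z))
  obtain ⟨c, hc⟩ := hz a ((CanExtLib.stalkMapₗ_smulMod F z b a).trans ha)
  exact ⟨c, (CanExtLib.stalkMapₗ_smulMod F z t c).symm.trans hc⟩

end RegAlgzLib

end
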