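import Groth.Agent.LefFormalLib.Main
import Groth.Agent.Formal2AlgzLib.Finite

/-!
# Finiteness of sections and first cohomology from the depth at points of codimension one
-/

set_option autoImplicit false
set_option linter.unusedSectionVars false
set_option maxRecDepth 8000

noncomputable section

universe u

open CategoryTheory CategoryTheory.Limits AlgebraicGeometry TopologicalSpace Opposite
open CohCmpLib (stk)
open KoszLcLib (scal)
open Formal2VBLib (stalkHom)
open LocCohLib (Hf exact_Hf Hδ exact_Hδ)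
open Formal2AlgzLib

namespace RegAlgzLib

variable {A : Type u} [CommRing A] [IsNoetherianRing A] {𝔞 : Ideal A} {G : (PU 𝔞).Modules}

theorem exists_model (hcoh : Coh.IsCoh G) :
    ∃ M₀ : Submodule A (S G), Module.Finite A M₀ ∧ LocCoh.IsPowerTorsion 𝔞 (S G ⧸ M₀) ∧
      ∀ (y : PU 𝔞) (c : stk G y), ∃ s ∉ (pr y).asIdeal, ∃ x : M₀, gS G y (x : S G) = stalkHom A y s • c := by
  haveI : Coh.IsQCoh G := hcoh.1
  obtain ⟨fs, hfs⟩ := LocCohLib.exists_list_span 𝔞
  obtain ⟨M₀, hfg, htor⟩ := KoszLcLib.exists_finite_sections 𝔞 fs hfs G hcoh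
  refine ⟨M₀, Module.Finite.iff_fg.2 hfg, htor, fun y c => ?_⟩
  obtain ⟨g, -, hgy, s, hs⟩ := exists_smul_eq_gS G y c
  obtain ⟨k, hk⟩ := htor (Submodule.Quotient.mk s)
  obtain ⟨a, ha, hay⟩ := Set.not_subset.1 (not_le_pr y)
  have has : a ^ k • s ∈ M₀ := by
    have := hk _ (Ideal.pow_mem_pow ha k)
    rwa [← Submodule.Quotient.mk_smul, Submodule.Quotient.mk_eq_zero] at this
  refine ⟨a ^ k * g, fun h => ((pr y).isPrime.mem_or_mem h).elim
    (fun h' => hay ((pr y).isPrime.mem_of_pow_mem _ h')) hgy, ⟨_, has⟩, ?_⟩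
  rw [gS_smul, hs, smul_smul, map_mul]

theorem finite_HH_of_depth {R : Type u} [CommRing R] [IsRegularRing R] (π : R →+* A) (hπ : Function.Surjective π)
    (hcoh : Coh.IsCoh G)
    (hd : ∀ y : PU 𝔞, SGA2.relCodim 𝔞 (pr y) = 1 →
      (2 : ℕ∞) ≤ LocCoh.depth ((PU 𝔞).presheaf.stalk y) (stk G y)) :
    Module.Finite A (S G) ∧ Module.Finite A (Coh.HH (PU 𝔞) G 1) := by
  haveI : Coh.IsQCoh G := hcoh.1
  haveI : NoetherianSpace (PU 𝔞) := (LocCoh.puncturedOpen A 𝔞).ι.isOpenEmbedding.isInducing.noetherianSpace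
  obtain ⟨M₀, hM₀, htor, hex⟩ := exists_model hcoh
  have hfin : ∀ i : ℕ, i ≤ 2 → Module.Finite A (LocCoh.H 𝔞 i M₀) :=
    (Groth.Agent.S2930.result R A π hπ 𝔞 M₀ 2).2 fun p q hp hq hpq =>
      (LefFormalLib.le_depth_stalk_iff G M₀ hex (⟨p, hp⟩ : PU 𝔞) 2).1
        (hd ⟨p, hp⟩ (LefFormalLib.relCodim_eq_one hp hq hpq))
  constructor
  · haveI := hfin 1 (by omega)
    have hS : Subsingleton (LocCoh.H 𝔞 0 (S G)) := by
      rw [(LocCohLib.H0Equiv 𝔞 (S G)).toEquiv.subsingleton_congr, Submodule.subsingleton_iff_eq_bot, eq_bot_iff]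
      intro x hx
      obtain ⟨n, hn⟩ := hx
      refine (Submodule.mem_bot A).2 (eq_zero_of_gS G x fun y => ?_)
      obtain ⟨g, hg, hgy⟩ := Set.not_subset.1 (not_le_pr y)
      have h := congrArg (gS G y) (hn (g ^ n) (Ideal.pow_mem_pow hg n))
      rw [gS_smul, map_zero] at h
      exact (isUnit_stalkHom fun h' => hgy ((pr y).isPrime.mem_of_pow_mem n h')).smul_eq_zero.1 h
    have hinj : Function.Injective (Hδ (I := 𝔞) M₀.injective_subtype (LinearMap.exact_subtype_mkQ M₀)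
        M₀.mkQ_surjective 0) := (injective_iff_map_eq_zero _).2 fun x hx => by
      obtain ⟨w, rfl⟩ := ((exact_Hδ M₀.injective_subtype (LinearMap.exact_subtype_mkQ M₀) M₀.mkQ_surjective 0).2 x).1 hx
      rw [Subsingleton.elim w 0, map_zero]
    haveI : Module.Finite A (LocCoh.H 𝔞 0 (S G ⧸ M₀)) := Module.Finite.of_injective _ hinj
    obtain ⟨e⟩ := LocCohLib.H0Equiv_of_torsion 𝔞 (S G ⧸ M₀) htor
    haveI := Module.Finite.equiv e
    exact Module.Finite.of_submodule_quotient M₀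
  · obtain ⟨fs, hfs⟩ := LocCohLib.exists_list_span 𝔞
    obtain ⟨e, he⟩ := KoszLcLib.exists_linearEquiv G (scal 𝔞) fs
      (fun i => KoszLcLib.isAffineOpen_scal 𝔞 (hfs ▸ Ideal.subset_span (List.get_mem fs i)))
      (KoszLcLib.iSup_scal 𝔞 fs hfs) 0
    obtain ⟨l⟩ := KoszLcLib.nonempty_H_equiv fs 𝔞 hfs (S G) 2
    let e' : Coh.HH (PU 𝔞) G 1 ≃ₗ[A] CohIII.koszulHLim fs (ModuleCat.of A (S G)) 2 :=
      { e with map_smul' := fun a x => he a x }
    haveI := hfin 2 le_rfl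
    haveI := LocCohLib.subsingleton_H_of_torsion (I := 𝔞) _ htor 2 (by omega)
    have hsur : Function.Surjective (Hf 𝔞 2 M₀.subtype) := fun y =>
      ((exact_Hf M₀.injective_subtype (LinearMap.exact_subtype_mkQ M₀) M₀.mkQ_surjective 2) y).1 (Subsingleton.elim _ _)
    haveI := Module.Finite.of_surjective _ hsur
    exact Module.Finite.equiv (e'.trans l.symm).symm

end RegAlgzLib

end
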