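import Groth.Agent.RegAlgzLib.Push
import Groth.Agent.RegAlgzLib.Model
import Groth.Agent.NFlatAlgzLib.Main
import Groth.Agent.LefAlgzLib.Pack
import Groth.Agent.FCohLib.AlgzIso

/-!
# Algebraization of regular formal modules of depth two
-/

set_option autoImplicit false
set_option linter.style.haveILetI false

universe u

open CategoryTheory CategoryTheory.Limits AlgebraicGeometry TopologicalSpace Opposite
open GrSysLib (trMap)
open Algz (toStalk stalkIdeal stalkMapₗ)
open Formal2AlgzLib (PU S pr)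

noncomputable section

namespace RegAlgzLib

section Split

variable {A : Type u} [CommRing A] [IsNoetherianRing A] {U : (Spec (CommRingCat.of A)).Opens} {t : A}
  {G : ℕᵒᵖ ⥤ (U : Scheme.{u}).Modules}

/-- The graded pieces of a regular system are copies of the first term. -/
theorem exists_split_regular (hG : Formal.IsCohFormal (Ideal.span ({t} : Set A)) G)
    (hex : ∀ (n : ℕ) (y : (U : Scheme.{u})) (a : (G.obj (op (n + 1))).presheaf.stalk y),
      toStalk A (U : Scheme.{u}) y (t ^ (n + 1)) • a = 0 → ∃ c, toStalk A (U : Scheme.{u}) y t • c = a) (n : ℕ) :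
    ∃ (s : ℕ) (b : Fin s → A) (hb : ∀ i, b i ∈ Ideal.span ({t} : Set A) ^ (n + 1))
      (p : Fin s → (kernel (trMap G n) ⟶ G.obj (op 0))),
      ∑ i, p i ≫ CanExtLib.mu hG n (b i) (hb i) = 𝟙 _ := by
  haveI := CanExtLib.isNoetherian_opens U
  have hb : t ^ (n + 1) ∈ Ideal.span ({t} : Set A) ^ (n + 1) :=
    Ideal.pow_mem_pow (Ideal.mem_span_singleton_self t) _
  let φ := CanExtLib.mu hG n (t ^ (n + 1)) hb
  have htr : ∀ y, Function.Surjective (stalkMapₗ (ARSys.tr G (Nat.zero_le (n + 1))) y) := fun y => by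
    haveI := (AlgzCohLib.tr_isModQuot hG (Nat.zero_le (n + 1))).epi
    exact (ModuleCat.epi_iff_surjective _).1
      (inferInstance : Epi ((DerSch.stalkFunctor (U : Scheme.{u}) y).map (ARSys.tr G (Nat.zero_le (n + 1)))))
  have hφ : ∀ (y : (U : Scheme.{u})) (a : (G.obj (op (n + 1))).presheaf.stalk y),
      stalkMapₗ (kernel.ι (trMap G n)) y (stalkMapₗ φ y (stalkMapₗ (ARSys.tr G (Nat.zero_le (n + 1))) y a)) =
        toStalk A (U : Scheme.{u}) y (t ^ (n + 1)) • a := fun y a => by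
    rw [← CanExtLib.stalkMapₗ_smulMod, ← CanExtLib.tr_mu hG n _ hb, CanExtLib.stalkMapₗ_comp, CanExtLib.stalkMapₗ_comp]
  haveI : IsIso φ := by
    refine KFlatLib.isIso_of_stalks φ fun y => ?_
    have hι : Function.Injective (stalkMapₗ (kernel.ι (trMap G n)) y) :=
      (ModuleCat.mono_iff_injective _).1
        (inferInstance : Mono ((DerSch.stalkFunctor (U : Scheme.{u}) y).map (kernel.ι (trMap G n))))
    rw [ConcreteCategory.isIso_iff_bijective]
    show Function.Bijective (stalkMapₗ φ y)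
    refine ⟨(injective_iff_map_eq_zero _).2 fun x hx => ?_, fun w => ?_⟩
    · obtain ⟨a, rfl⟩ := htr y x
      have h0 := hφ y a
      rw [hx, map_zero] at h0
      obtain ⟨c, rfl⟩ := hex n y a h0.symm
      refine CanExtLib.smul_le_ker (I := Ideal.span ({t} : Set A)) (n := 1) _ y
        (fun q hq => by rw [FormalProLib.smulMod_natural, hG.2.1 0 q hq, comp_zero]) ?_
      refine Submodule.smul_mem_smul ?_ trivial
      rw [pow_one]
      exact Ideal.mem_map_of_mem _ (Ideal.mem_span_singleton_self t)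
    · have hw : stalkMapₗ (kernel.ι (trMap G n)) y w ∈
          (stalkIdeal (Ideal.span ({t} : Set A)) y ^ (n + 1) • ⊤ : Submodule ((U : Scheme.{u}).presheaf.stalk y)
            ((G.obj (op (n + 1))).presheaf.stalk y)) := by
        refine (CanExtLib.ker_stalk_trMap hG n y).le ?_
        rw [LinearMap.mem_ker, ← CanExtLib.stalkMapₗ_comp, kernel.condition, CanExtLib.stalkMapₗ_zero]
      rw [CanExtLib.stalkIdeal_pow, Ideal.span_singleton_pow, Ideal.map_span, Set.image_singleton,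
        Submodule.ideal_span_singleton_smul, Submodule.mem_smul_pointwise_iff_exists] at hw
      obtain ⟨v, -, hv⟩ := hw
      exact ⟨stalkMapₗ (ARSys.tr G (Nat.zero_le (n + 1))) y v, hι ((hφ y v).trans hv)⟩
  refine ⟨1, fun _ => t ^ (n + 1), fun _ => hb, fun _ => inv φ, ?_⟩
  rw [Fin.sum_univ_one]
  exact IsIso.inv_hom_id φ

end Split

variable {R : Type u} [CommRing R] [IsRegularRing R] {A : Type u} [CommRing A] [IsNoetherianRing A]
  {t : A} {I : Ideal A}

/-- **Existence in depth two**, stalk form. -/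
theorem exists_algebraization_stalk (π : R →+* A) (hπ : Function.Surjective π) [IsAdicComplete (Ideal.span ({t} : Set A)) A]
    (V : (Spec (CommRingCat.of A)).Opens) (hV : V = LocCoh.puncturedOpen A I)
    (𝔐 : FSch.ModSys (FSch.completionAlong (V : Scheme.{u})
      ((Spec.map (CommRingCat.ofHom (Ideal.Quotient.mk (Ideal.span {t})))).ker.comap V.ι)))
    (hcoh : 𝔐.IsCoh)
    (hexF : ∀ (n : ℕ) (z : ↥((FSch.completionAlong (V : Scheme.{u})
        ((Spec.map (CommRingCat.ofHom (Ideal.Quotient.mk (Ideal.span {t})))).ker.comap V.ι)).X (n + 1)))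
      (a : (𝔐.F (n + 1)).presheaf.stalk z),
      letI := FCohLib.overLevel (A := A) ((Spec.map (CommRingCat.ofHom (Ideal.Quotient.mk (Ideal.span {t})))).ker.comap V.ι) (n + 1)
      toStalk A ((FSch.completionAlong (V : Scheme.{u})
        ((Spec.map (CommRingCat.ofHom (Ideal.Quotient.mk (Ideal.span {t})))).ker.comap V.ι)).X (n + 1)) z (t ^ (n + 1)) • a = 0 →
      ∃ c, toStalk A ((FSch.completionAlong (V : Scheme.{u})
        ((Spec.map (CommRingCat.ofHom (Ideal.Quotient.mk (Ideal.span {t})))).ker.comap V.ι)).X (n + 1)) z t • c = a)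
    (hdepth : ∀ y, SGA2.relCodim I ((FSch.completionToX (V : Scheme.{u})
        ((Spec.map (CommRingCat.ofHom (Ideal.Quotient.mk (Ideal.span {t})))).ker.comap V.ι) 0 ≫ V.ι).base y) = 1 →
      (2 : ℕ∞) ≤ LocCoh.depth (((FSch.completionAlong (V : Scheme.{u})
        ((Spec.map (CommRingCat.ofHom (Ideal.Quotient.mk (Ideal.span {t})))).ker.comap V.ι)).X 0).presheaf.stalk y)
          ((𝔐.F 0).presheaf.stalk y)) :
    ∃ F : (V : Scheme.{u}).Modules, Coh.IsCoh F ∧
      Nonempty (FSch.completionMod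
        ((Spec.map (CommRingCat.ofHom (Ideal.Quotient.mk (Ideal.span {t})))).ker.comap V.ι) F ≅ 𝔐) := by
  subst hV
  let 𝓘 := (Spec.map (CommRingCat.ofHom (Ideal.Quotient.mk (Ideal.span ({t} : Set A))))).ker.comap
    (LocCoh.puncturedOpen A I).ι
  have h𝓘 : 𝓘 = (FSch.idealSpec A (Ideal.span {t})).comap ((PU I) ↘ Spec (CommRingCat.of A)) := rfl
  let G := FCohLib.gSys 𝓘 𝔐
  have hG : Formal.IsCohFormal (Ideal.span ({t} : Set A)) G := FCohLib.isCohFormal_gSys _ 𝓘 h𝓘 𝔐 hcoh
  have hex : ∀ (n : ℕ) (y : PU I) (a : (G.obj (op (n + 1))).presheaf.stalk y),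
      toStalk A (PU I) y (t ^ (n + 1)) • a = 0 → ∃ c, toStalk A (PU I) y t • c = a := by
    intro n y a ha
    letI := FCohLib.overLevel (A := A) 𝓘 (n + 1)
    exact exists_smul_eq_push (A := A) (FSch.completionToX (PU I) 𝓘 (n + 1)) rfl (𝔐.F (n + 1)) t (t ^ (n + 1))
      (hexF n) y a ha
  haveI : IsLocallyNoetherian (PU I) := LocallyOfFiniteType.isLocallyNoetherian (LocCoh.puncturedOpen A I).ι
  haveI : IsLocallyNoetherian ((FSch.completionAlong (PU I) 𝓘).X 0) :=
    LocallyOfFiniteType.isLocallyNoetherian (FSch.completionToX (PU I) 𝓘 0)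
  have hd : ∀ y : PU I, SGA2.relCodim I (pr y) = 1 →
      (2 : ℕ∞) ≤ LocCoh.depth ((PU I).presheaf.stalk y) ((G.obj (op 0)).presheaf.stalk y) := by
    intro y hy
    by_cases h : y ∈ Set.range ⇑(FSch.completionToX (PU I) 𝓘 0)
    · obtain ⟨z, rfl⟩ := h
      refine le_of_le_of_eq (hdepth z hy) (depth_push (FSch.completionToX (PU I) 𝓘 0) (𝔐.F 0) (hcoh 0) z).symm
    · have hn : y ∉ CohB1.support ((Coh.push (FSch.completionToX (PU I) 𝓘 0)).obj (𝔐.F 0)) :=
        fun hc => h (DevissLib.support_push_subset _ _ hc)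
      haveI : Subsingleton ((G.obj (op 0)).presheaf.stalk y) := not_not.mp hn
      have htop : LocCoh.depth ((PU I).presheaf.stalk y) ((G.obj (op 0)).presheaf.stalk y) = ⊤ :=
        if_pos (Subsingleton.elim _ _)
      rw [htop]
      exact le_top
  obtain ⟨h0, h1⟩ := finite_HH_of_depth π hπ (hG.1 0) hd
  have hext := CanExtLib.canonicallyExtends_of_split hG (NFlatAlgzLib.finite_HH_zero h0) h1
    (exists_split_regular hG hex)
  obtain ⟨F, hF, ⟨γ⟩⟩ := AlgzCohLib.exists_coh_completion_iso (AlgzCohLib.extends_of_canonicallyExtends hG hext)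
  haveI : Coh.IsQCoh F := hF.1
  obtain ⟨e⟩ := FCohLib.nonempty_iso_complMod _ 𝓘 h𝓘 𝔐 γ
  exact ⟨F, hF, ⟨LefAlgzLib.completionModIso 𝓘 F ≪≫ e⟩⟩


/-- **Existence in depth two.** -/
theorem exists_algebraization (π : R →+* A) (hπ : Function.Surjective π) [IsAdicComplete (Ideal.span ({t} : Set A)) A]
    (V : (Spec (CommRingCat.of A)).Opens) (hV : V = LocCoh.puncturedOpen A I)
    (𝔐 : FSch.ModSys (FSch.completionAlong (V : Scheme.{u})
      ((Spec.map (CommRingCat.ofHom (Ideal.Quotient.mk (Ideal.span {t})))).ker.comap V.ι)))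
    (hcoh : 𝔐.IsCoh)
    (hreg : ∀ N : ℕ, 1 ≤ N → kernelSubobject (Formal.smulModΓ (𝔐.F N) ((((FSch.completionToX (V : Scheme.{u})
        ((Spec.map (CommRingCat.ofHom (Ideal.Quotient.mk (Ideal.span {t})))).ker.comap V.ι) N) ≫ V.ι).appTop.hom
          ((Scheme.ΓSpecIso (CommRingCat.of A)).inv t)) ^ N)) =
      imageSubobject (Formal.smulModΓ (𝔐.F N) (((FSch.completionToX (V : Scheme.{u})
        ((Spec.map (CommRingCat.ofHom (Ideal.Quotient.mk (Ideal.span {t})))).ker.comap V.ι) N) ≫ V.ι).appTop.hom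
          ((Scheme.ΓSpecIso (CommRingCat.of A)).inv t))))
    (hdepth : ∀ y, SGA2.relCodim I ((FSch.completionToX (V : Scheme.{u})
        ((Spec.map (CommRingCat.ofHom (Ideal.Quotient.mk (Ideal.span {t})))).ker.comap V.ι) 0 ≫ V.ι).base y) = 1 →
      (2 : ℕ∞) ≤ LocCoh.depth (((FSch.completionAlong (V : Scheme.{u})
        ((Spec.map (CommRingCat.ofHom (Ideal.Quotient.mk (Ideal.span {t})))).ker.comap V.ι)).X 0).presheaf.stalk y)
          ((𝔐.F 0).presheaf.stalk y)) :
    ∃ F : (V : Scheme.{u}).Modules, Coh.IsCoh F ∧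
      Nonempty (FSch.completionMod
        ((Spec.map (CommRingCat.ofHom (Ideal.Quotient.mk (Ideal.span {t})))).ker.comap V.ι) F ≅ 𝔐) := by
  subst hV
  refine exists_algebraization_stalk π hπ _ rfl 𝔐 hcoh (fun n z a ha => ?_) hdepth
  let 𝓘 := (Spec.map (CommRingCat.ofHom (Ideal.Quotient.mk (Ideal.span ({t} : Set A))))).ker.comap
    (LocCoh.puncturedOpen A I).ι
  have h𝓘 : 𝓘 = (FSch.idealSpec A (Ideal.span {t})).comap ((PU I) ↘ Spec (CommRingCat.of A)) := rfl
  letI := FCohLib.overLevel (A := A) 𝓘 (n + 1)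
  refine exists_smul_eq_of_subobject (A := A) (𝔐.F (n + 1)) t (t ^ (n + 1)) ?_ ?_ z a ha
  · rw [← FormalLib.smulMod_mul, ← pow_succ]
    exact GrSysLib.smulMod_eq_zero (Ideal.span ({t} : Set A) ^ (n + 1 + 1))
      (fun b hb => FCohLib.toGlobal_zero' _ 𝓘 h𝓘 (n + 1) hb) _ (Ideal.pow_mem_pow (Ideal.mem_span_singleton_self t) _)
  · refine Eq.trans ?_ ((hreg (n + 1) (by omega)).trans rfl)
    refine congrArg (fun r => kernelSubobject (Formal.smulModΓ (𝔐.F (n + 1)) r)) ?_
    exact map_pow (Coh.toGlobal (FSch.completionToX (PU I) 𝓘 (n + 1) ≫ (PU I ↘ Spec (CommRingCat.of A)))) t (n + 1)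

end RegAlgzLib

end
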